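import Mathlib

set_option autoImplicit false
universe u
open CategoryTheory CategoryTheory.Limits Opposite TopologicalSpace AlgebraicGeometry

namespace Groth.Agent.Lib.Helper5.FibBdd

variable {S : Scheme.{u}}

/-- the global sections of the spectrum of a residue field form a field -/
theorem isField_Γ_residueField (s : S) : IsField Γ(Spec (S.residueField s), ⊤) :=
  MulEquiv.isField (Field.toIsField (S.residueField s))
    (Scheme.ΓSpecIso (S.residueField s)).commRingCatIsoToRingEquiv.toMulEquiv

theorem top_le_preimage_fromSpecResidueField {V : S.Opens} (s : S) (hs : s ∈ V) :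
    (⊤ : (Spec (S.residueField s)).Opens) ≤ (S.fromSpecResidueField s) ⁻¹ᵁ V := by
  intro z _
  show (S.fromSpecResidueField s).base z ∈ V
  rw [Scheme.fromSpecResidueField_apply]
  exact hs

/-- the kernel of evaluation at a point of an affine open, in chart form -/
theorem ker_appLE_fromSpecResidueField {V : S.Opens} (hV : IsAffineOpen V)
    (p : Spec Γ(S, V)) (s : S) (hp : hV.fromSpec.base p = s) (hs : s ∈ V) :
    RingHom.ker ((S.fromSpecResidueField s).appLE V ⊤
      (top_le_preimage_fromSpecResidueField s hs)).hom = p.asIdeal := by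
  let T := Spec (S.residueField s)
  let g := S.fromSpecResidueField s
  let φ := g.appLE V ⊤ (top_le_preimage_fromSpecResidueField s hs)
  have hF := isField_Γ_residueField s
  haveI : Nontrivial Γ(T, ⊤) := hF.nontrivial
  obtain ⟨z⟩ : Nonempty (Spec Γ(T, ⊤)) := inferInstance
  have hsq := IsAffineOpen.SpecMap_appLE_fromSpec g hV (isAffineOpen_top T)
    (top_le_preimage_fromSpecResidueField s hs)
  have h1 : hV.fromSpec.base ((Spec.map φ).base z) = s := by
    have := congrArg (fun ψ : Spec Γ(T, ⊤) ⟶ S => ψ.base z) hsq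
    simp only [Scheme.Hom.comp_base, TopCat.comp_app] at this
    rw [this]
    exact Scheme.fromSpecResidueField_apply s _
  have h2 : (Spec.map φ).base z = p :=
    hV.fromSpec.isOpenEmbedding.injective (h1.trans hp.symm)
  have hz : z.asIdeal = ⊥ := by
    rw [eq_bot_iff]
    intro x hx
    by_contra hne
    obtain ⟨y, hy⟩ := hF.mul_inv_cancel hne
    have : (1 : Γ(T, ⊤)) ∈ z.asIdeal := hy ▸ z.asIdeal.mul_mem_right y hx
    exact z.isPrime.ne_top ((Ideal.eq_top_iff_one _).2 this)
  rw [← h2]
  show RingHom.ker φ.hom = Ideal.comap φ.hom z.asIdeal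
  rw [hz]
  rfl

end Groth.Agent.Lib.Helper5.FibBdd
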