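import Mathlib
import Groth.Agent.Lib.Helper5.FibBdd.Ker
import Groth.Agent.Lib.Helper5.FibReg.RelPerfCritField
import Groth.Agent.Lib.Helper5.FibReg.Chart
import Groth.Agent.Lib.Helper5.FibStalk.RelPerfBC
import Groth.Agent.Lib.Helper5.HTor.Bounds
import Groth.Agent.Lib.Helper5.Perf.PCCohNoeth

/-!
# Relative perfectness through boundedness below of the fibres, geometric form (helper5)

`f : X ⟶ S` flat, locally of finite presentation, `E ∈ D(O_X)` pseudo-coherent.  Then `E` is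
`S`-perfect iff `E` is locally bounded below and all derived pullbacks to the fibres are locally
bounded below.
-/

set_option autoImplicit false
set_option linter.unusedSectionVars false
set_option linter.unusedVariables false
set_option linter.style.haveILetI false
universe u
open CategoryTheory CategoryTheory.Limits Opposite TopologicalSpace AlgebraicGeometry

attribute [local instance] HasDerivedCategory.standard

namespace Groth.Agent.Lib.Helper5.FibBdd

open Groth.Agent.Lib.Helper5.RelTor Groth.Agent.Lib.Helper5.QC Groth.Agent.Lib.Helper5.BCGeo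
  Groth.Agent.Lib.Helper5.AffComm Groth.Agent.Lib.Helper5.PCTri Groth.Agent.Lib.Helper5.Thick
  Groth.Agent.Lib.Helper5.IsoSq Groth.Agent.Helper5.TorAmp Groth.Agent.Lib.Helper5.FibReg
  Groth.Agent.Lib.Helper5.RpushSupp Groth.Agent.Lib.Helper5.KProj

section L1
variable {Y : Scheme.{u}}

/-- a locally bounded below object is bounded below on every quasi-compact open -/
theorem exists_isGE_restrictD_of_isCompact (K : DCoh.D Y) (U : Y.Opens)
    (hU : IsCompact (U : Set Y))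
    (h : ∀ y : Y, y ∈ U → ∃ (W : Y.Opens) (a : ℤ), y ∈ W ∧
      ((DCoh.restrictD W.ι).obj K).IsGE a) :
    ∃ a : ℤ, ((DCoh.restrictD U.ι).obj K).IsGE a := by
  choose W a hyW hW using h
  obtain ⟨t, ht⟩ := hU.elim_finite_subcover (fun y : U => ((W y.1 y.2 : Y.Opens) : Set Y))
    (fun y => (W y.1 y.2).2) (fun y hy => Set.mem_iUnion.2 ⟨⟨y, hy⟩, hyW y hy⟩)
  obtain ⟨a', ha'⟩ := Finset.exists_le (α := ℤᵒᵈ)
    (t.image (fun y : U => OrderDual.toDual (a y.1 y.2)))
  refine ⟨OrderDual.ofDual a', ?_⟩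
  rw [DerivedCategory.isGE_iff]
  intro i hi
  refine IsZero.of_iso (isZero_restrict_of_stalks (DCoh.HD K i) U ?_) (hdRestrictDIso K U i).symm
  intro x hx
  obtain ⟨y, hyt, hxy⟩ : ∃ y ∈ t, x ∈ W y.1 y.2 := by
    have := ht hx
    simp only [Set.mem_iUnion] at this
    obtain ⟨y, hy, hxy⟩ := this
    exact ⟨y, hy, hxy⟩
  have hle : OrderDual.ofDual a' ≤ a y.1 y.2 :=
    ha' _ (Finset.mem_image_of_mem _ hyt)
  haveI := hW y.1 y.2
  have h1 : IsZero (DCoh.HD ((DCoh.restrictD (W y.1 y.2).ι).obj K) i) :=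
    DerivedCategory.isZero_of_isGE _ (a y.1 y.2) i (lt_of_lt_of_le hi hle)
  have h2 : IsZero ((DCoh.HD K i).restrict (W y.1 y.2).ι) :=
    h1.of_iso (hdRestrictDIso K (W y.1 y.2) i)
  exact subsingleton_stalk_of_isZero_restrict (DCoh.HD K i) (W y.1 y.2) h2 x hxy

/-- boundedness below is preserved by restriction along open immersions -/
theorem isGE_restrictD_J {U : Scheme.{u}} (j : U ⟶ Y) [IsOpenImmersion j] (E : DCoh.D Y) (n : ℤ)
    [E.IsGE n] : ((DCoh.restrictD j).obj E).IsGE n := by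
  rw [DerivedCategory.isGE_iff]
  intro i hi
  have h0 : IsZero (DCoh.HD E i) := DerivedCategory.isZero_of_isGE E n i hi
  exact IsZero.of_iso (Functor.map_isZero (Scheme.Modules.restrictFunctor j) h0)
    (Groth.Agent.Lib.Helper5.PCCoh.hdRestrictJIso j E i)

theorem isGE_of_iso' {K L : DCoh.D Y} (e : K ≅ L) (n : ℤ) [K.IsGE n] : L.IsGE n :=
  DerivedCategory.TStructure.t.isGE_of_iso e n

/-- the bound on an affine chart -/
theorem isGE_resSpec {U : Y.Opens} (hU : IsAffineOpen U) (E : DCoh.D Y) (n : ℤ)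
    [((DCoh.restrictD U.ι).obj E).IsGE n] : (resSpec E hU).IsGE n := by
  haveI := isGE_restrictD_J hU.isoSpec.inv ((DCoh.restrictD U.ι).obj E) n
  exact isGE_of_iso' (resTwoIso hU E) n

end L1

section Chart

variable {X S X' T : Scheme.{u}} {f : X ⟶ S} {f' : X' ⟶ T} {g' : X' ⟶ X} {g : T ⟶ S}

/-- the fibre over an affine point of the base, on a chart: the derived base change of the module
complex is bounded below -/
theorem exists_fibre_bound (sq : IsPullback g' f' f g) [Flat f] [DCoh.HasLpull g'] [IsAffine T]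
    (E : DCoh.D X)
    (hloc : ∀ y : X', ∃ (W : X'.Opens) (a : ℤ), y ∈ W ∧
      ((DCoh.restrictD W.ι).obj ((DCoh.Lpull g').obj E)).IsGE a)
    {V : S.Opens} (hV : IsAffineOpen V) {U : X.Opens} (hU : IsAffineOpen U)
    (hUV : U ≤ f ⁻¹ᵁ V) (hT : (⊤ : T.Opens) ≤ g ⁻¹ᵁ V)
    (M : Dual.D Γ(X, U)) (eM : (DCoh.tildeD Γ(X, U)).obj M ≅ resSpec E hU) :
    ∃ a : ℤ, ∀ i : ℤ, i < a → Subsingleton (Dual.HD Γ(T, ⊤)
      ((DRing.LBaseChange (g.appLE V ⊤ hT).hom).obj
        ((DRing.restrictD (f.appLE V U hUV).hom).obj M)) i) := by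
  obtain ⟨hU', hpo⟩ := isPushout_chart sq hV hU (isAffineOpen_top T) hUV hT
  let U' : X'.Opens := g' ⁻¹ᵁ U ⊓ f' ⁻¹ᵁ ⊤
  obtain ⟨a, ha⟩ := exists_isGE_restrictD_of_isCompact ((DCoh.Lpull g').obj E) U' hU'.isCompact
    (fun y _ => hloc y)
  obtain ⟨t⟩ := nonempty_tilde_lpull g' E hU hU' inf_le_left M eM
  haveI := ha
  haveI hge1 : (resSpec ((DCoh.Lpull g').obj E) hU').IsGE a := isGE_resSpec hU' _ a
  have hge2 : ((DCoh.tildeD Γ(X', U')).obj
      ((DRing.LBaseChange (g'.appLE U U' inf_le_left).hom).obj M)).IsGE a :=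
    isGE_of_iso' t.symm a
  have hge3 : ((DRing.LBaseChange (g'.appLE U U' inf_le_left).hom).obj M).IsGE a :=
    Groth.Agent.Lib.Helper5.HTorLib.isGE_of_isGE_tildeD _ _ a hge2
  letI algRA := (f.appLE V U hUV).hom.toAlgebra
  letI algRR₀ := (g.appLE V ⊤ hT).hom.toAlgebra
  letI algR₀A₀ := (f'.appLE ⊤ U' inf_le_right).hom.toAlgebra
  letI algAA₀ := (g'.appLE U U' inf_le_left).hom.toAlgebra
  letI algRA₀ : Algebra Γ(S, V) Γ(X', U') :=
    ((f'.appLE ⊤ U' inf_le_right).hom.comp (g.appLE V ⊤ hT).hom).toAlgebra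
  haveI : IsScalarTower Γ(S, V) Γ(T, ⊤) Γ(X', U') :=
    IsScalarTower.of_algebraMap_eq (fun _ => rfl)
  haveI : IsScalarTower Γ(S, V) Γ(X, U) Γ(X', U') :=
    IsScalarTower.of_algebraMap_eq (fun x => by
      have := congrArg (fun φ => φ.hom x) hpo.w
      exact this.symm)
  haveI hpo' : Algebra.IsPushout Γ(S, V) Γ(X, U) Γ(T, ⊤) Γ(X', U') :=
    CommRingCat.isPushout_iff_isPushout.1 hpo
  haveI : Module.Flat Γ(S, V) Γ(X, U) := Flat.flat_appLE f hV hU hUV
  obtain ⟨c₀⟩ := nonempty_pushoutIso_left Γ(S, V) Γ(X, U) Γ(T, ⊤) Γ(X', U') M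
  refine ⟨a, fun i hi => ?_⟩
  have h5 : Subsingleton (Dual.HD Γ(X', U')
      ((DRing.LBaseChange (algebraMap Γ(X, U) Γ(X', U'))).obj M) i) :=
    ModuleCat.subsingleton_of_isZero (DerivedCategory.isZero_of_isGE _ a i hi)
  have h6 := (subsingleton_HD_restrictD_iff (algebraMap Γ(T, ⊤) Γ(X', U')) _ i).2 h5
  exact subsingleton_HD_of_iso c₀.symm i h6

end Chart

end Groth.Agent.Lib.Helper5.FibBdd
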