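import Mathlib
import Groth.Agent.Lib.Helper5.FibBdd.Main

/-!
# Relative perfectness through boundedness below of the fibres, geometric form: main theorem
(helper5)
-/

set_option autoImplicit false
set_option linter.unusedSectionVars false
set_option linter.unusedVariables false
set_option linter.style.haveILetI false
universe u
open CategoryTheory CategoryTheory.Limits Opposite TopologicalSpace AlgebraicGeometry

attribute [local instance] HasDerivedCategory.standard

namespace Groth.Agent.Lib.Helper5.FibBdd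

open Groth.Agent.Lib.Helper5.RelTor Groth.Agent.Lib.Helper5.QC Groth.Agent.Lib.Helper5.BCGeo
  Groth.Agent.Lib.Helper5.AffComm Groth.Agent.Lib.Helper5.PCTri Groth.Agent.Lib.Helper5.Thick
  Groth.Agent.Lib.Helper5.IsoSq Groth.Agent.Helper5.TorAmp Groth.Agent.Lib.Helper5.FibReg
  Groth.Agent.Lib.Helper5.RpushSupp Groth.Agent.Lib.Helper5.KProj Groth.Agent.Lib.Helper5.FibStalk

variable {X S : Scheme.{u}} (f : X ⟶ S)

/-- local boundedness below from local finiteness of the relative tor dimension -/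
theorem locally_isGE_of_locHasFiniteRelTorDim (K : DCoh.D X)
    (h : DCoh.LocHasFiniteRelTorDim f K) (x : X) :
    ∃ (V : X.Opens) (a : ℤ), x ∈ V ∧ ((DCoh.restrictD V.ι).obj K).IsGE a := by
  obtain ⟨V, a, b, hxV, hV⟩ := h x
  let F' : CochainComplex X.Modules ℤ := DerivedCategory.Q.objPreimage K
  let eF' : DCoh.toD X F' ≅ K := DerivedCategory.Q.objObjPreimageIso K
  obtain ⟨E₀, hv, -, ⟨e⟩⟩ := hV F' ⟨eF'⟩
  refine ⟨V, a, hxV, ?_⟩
  have e2 : DCoh.toD _ E₀ ≅ (DCoh.restrictD V.ι).obj K :=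
    e ≪≫ ((Scheme.Modules.restrictFunctor V.ι).mapDerivedCategoryFactors.app F').symm ≪≫
      (DCoh.restrictD V.ι).mapIso eF'
  haveI : E₀.IsStrictlyGE a := by
    rw [CochainComplex.isStrictlyGE_iff]
    intro i hi
    exact hv i (Or.inl hi)
  haveI : (DCoh.toD _ E₀).IsGE a := inferInstance
  exact isGE_of_iso' e2 a

/-- **the fibre criterion for relative perfectness through boundedness below** -/
theorem locHasFiniteRelTorDim_of_fibres [Flat f] [LocallyOfFinitePresentation f]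
    [∀ s : S, DCoh.HasLpull (f.fiberι s)]
    (E : DCoh.D X) (hE : ∀ m : ℤ, DCoh.IsPseudoCoherentD m E)
    (h1 : ∀ x : X, ∃ (V : X.Opens) (a : ℤ), x ∈ V ∧ ((DCoh.restrictD V.ι).obj E).IsGE a)
    (h2 : ∀ (s : S) (y : ↥(f.fiber s)), ∃ (W : (f.fiber s).Opens) (a : ℤ), y ∈ W ∧
      ((DCoh.restrictD W.ι).obj ((DCoh.Lpull (f.fiberι s)).obj E)).IsGE a) :
    DCoh.LocHasFiniteRelTorDim f E := by
  have hq : DCoh.IsQCohD E := isQCohD_of_isPC _ hE
  refine (relPerfect_of_affine_cover f E hq ?_).2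
  intro x
  obtain ⟨V₀, a₀, hxV₀, hge⟩ := h1 x
  obtain ⟨_, ⟨V, hV : IsAffineOpen V, rfl⟩, hfxV, -⟩ :=
    S.isBasis_affineOpens.exists_subset_of_mem_open (Set.mem_univ (f.base x)) isOpen_univ
  obtain ⟨_, ⟨U, hU : IsAffineOpen U, rfl⟩, hxU, hUle⟩ :=
    X.isBasis_affineOpens.exists_subset_of_mem_open
      (show x ∈ ((V₀ ⊓ f ⁻¹ᵁ V : X.Opens) : Set X) from ⟨hxV₀, hfxV⟩) (V₀ ⊓ f ⁻¹ᵁ V).2
  have hUV₀ : U ≤ V₀ := fun z hz => (hUle hz).1
  have hUV : U ≤ f ⁻¹ᵁ V := fun z hz => (hUle hz).2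
  refine ⟨U, V, hU, hV, hUV, hxU, fun M ⟨eM⟩ => ?_⟩
  letI algRA := (f.appLE V U hUV).hom.toAlgebra
  haveI : Module.Flat Γ(S, V) Γ(X, U) := Flat.flat_appLE f hV hU hUV
  haveI : Algebra.FinitePresentation Γ(S, V) Γ(X, U) :=
    HasRingHomProperty.appLE @LocallyOfFinitePresentation f inferInstance ⟨V, hV⟩ ⟨U, hU⟩ hUV
  have eM' : (DCoh.tildeD Γ(X, U)).obj M ≅ resSpec E hU := eM.symm ≪≫ resTwoIso hU E
  have hMpc : DRing.IsPseudoCoherent' Γ(X, U) M :=
    (Groth.Agent.Helper5.PCBuild.s2066 M).1.1 (fun m =>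
      (Groth.Agent.Lib.Helper5.TildePC.isPseudoCoherentD_tildeD_iff Γ(X, U) M m).1
        (isPC_of_iso eM'.symm (isPC_restrictD hU.fromSpec (hE m))))
  refine ⟨hMpc, finiteTorDim_of_fibres_field Γ(S, V) Γ(X, U) M hMpc ?_ ?_⟩
  · -- `M` is bounded below
    obtain ⟨a, ha⟩ := exists_isGE_restrictD_of_isCompact E U hU.isCompact
      (fun y hy => ⟨V₀, a₀, hUV₀ hy, hge⟩)
    haveI := ha
    haveI : (resSpec E hU).IsGE a := isGE_resSpec hU E a
    have hge2 : ((DCoh.tildeD Γ(X, U)).obj M).IsGE a := isGE_of_iso' eM'.symm a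
    haveI hge3 : M.IsGE a := Groth.Agent.Lib.Helper5.HTorLib.isGE_of_isGE_tildeD _ _ a hge2
    exact ⟨a, fun i hi =>
      ModuleCat.subsingleton_of_isZero (DerivedCategory.isZero_of_isGE M a i hi)⟩
  · -- the fibres
    intro p
    let s : S := hV.fromSpec.base p
    have hs : s ∈ V := by
      have : s ∈ Set.range hV.fromSpec := ⟨p, rfl⟩
      rw [hV.range_fromSpec] at this
      exact this
    have sq : IsPullback (f.fiberι s) (f.fiberToSpecResidueField s) f
        (S.fromSpecResidueField s) := IsPullback.of_hasPullback f (S.fromSpecResidueField s)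
    have hT := top_le_preimage_fromSpecResidueField s hs
    refine ⟨Γ(Spec (S.residueField s), ⊤), inferInstance,
      ((S.fromSpecResidueField s).appLE V ⊤ hT).hom, isField_Γ_residueField s,
      ker_appLE_fromSpecResidueField hV p s rfl hs, ?_⟩
    exact exists_fibre_bound sq E (h2 s) hV hU hUV hT M eM'

/-- the converse -/
theorem fibres_of_locHasFiniteRelTorDim [Flat f] [∀ s : S, DCoh.HasLpull (f.fiberι s)]
    (E : DCoh.D X) (h : DCoh.LocHasFiniteRelTorDim f E) :
    (∀ x : X, ∃ (V : X.Opens) (a : ℤ), x ∈ V ∧ ((DCoh.restrictD V.ι).obj E).IsGE a) ∧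
      ∀ (s : S) (y : ↥(f.fiber s)), ∃ (W : (f.fiber s).Opens) (a : ℤ), y ∈ W ∧
        ((DCoh.restrictD W.ι).obj ((DCoh.Lpull (f.fiberι s)).obj E)).IsGE a := by
  refine ⟨fun x => locally_isGE_of_locHasFiniteRelTorDim f E h x, fun s y => ?_⟩
  have sq : IsPullback (f.fiberι s) (f.fiberToSpecResidueField s) f
      (S.fromSpecResidueField s) := IsPullback.of_hasPullback f (S.fromSpecResidueField s)
  have h' := locHasFiniteRelTorDim_Lpull_fibre sq E h
  exact locally_isGE_of_locHasFiniteRelTorDim (f.fiberToSpecResidueField s) _ h' y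

end Groth.Agent.Lib.Helper5.FibBdd
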